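import Groth.Agent.NodeModel.Scheme
import Groth.Agent.SmoothReg.Scheme
import Groth.Agent.RegLoc6.Basic
import Groth.Agent.H23.FinCondSch
import Groth.Agent.H23.RedSub

/-!
# Components of strictly semistable curves over a field are smooth
-/

set_option autoImplicit false
set_option linter.style.haveILetI false
universe u

open CategoryTheory CategoryTheory.Limits AlgebraicGeometry TopologicalSpace StrictSS

namespace Groth.Agent.StrictComp

variable {k : Type u} [Field k] {C : Scheme.{u}} (φ : C ⟶ Spec (CommRingCat.of k))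

/-- A smooth closed subscheme of an open through the generic point of a component is the component
near each of its points. -/
theorem exists_local {U : C.Opens} {T : Scheme.{u}} (t : T ⟶ U) [IsClosedImmersion t]
    [Smooth (t ≫ U.ι ≫ φ)] {Z : Set C} (hZ : Z ∈ irreducibleComponents (C : Type u))
    {ξ : C} (hξ : Z = closure {ξ}) (hξm : ∀ y, y ⤳ ξ → ξ ⤳ y) (hξU : ξ ∈ U)
    (hξT : (⟨ξ, hξU⟩ : U) ∈ Set.range t) (x : U) (hx : x ∈ Set.range t) (hxZ : U.ι x ∈ Z) :
    ∃ (V : C.Opens) (_ : U.ι x ∈ V) (T₀ : Scheme.{u}) (r : T₀ ⟶ C),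
      IsImmersion r ∧ IsReduced T₀ ∧ Smooth (r ≫ φ) ∧ Set.range r = Z ∩ V := by
  obtain ⟨p, rfl⟩ := hx
  let q := t ≫ U.ι ≫ φ
  haveI : IsLocallyNoetherian T := LocallyOfFiniteType.isLocallyNoetherian q
  haveI := SmoothReg.isRegularLocalRing_stalk_of_mem_smoothLocus q (x := p)
    (by rw [Scheme.Hom.smoothLocus_eq_top]; trivial)
  haveI := RegLoc6.isDomain_of_isRegularLocalRing (T.presheaf.stalk p)
  obtain ⟨T₀, hp, hT₀⟩ := H23.FinCondSch.exists_integral_nhd (X := T) p
  haveI := hT₀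
  obtain ⟨O, hO, hOT⟩ := t.isEmbedding.isOpen_iff.1 T₀.2
  let V : C.Opens := U.ι ''ᵁ ⟨O, hO⟩
  let r := T₀.ι ≫ t ≫ U.ι
  have hmemV : ∀ y : U, (y : C) ∈ V ↔ y ∈ O := fun y =>
    ⟨fun ⟨y', hy', he⟩ => (U.ι.isEmbedding.injective he : y' = y) ▸ hy', fun h => ⟨y, h, rfl⟩⟩
  have hpV : U.ι (t p) ∈ V := (hmemV (t p)).2 (by
    have : p ∈ t ⁻¹' O := hOT.ge hp
    exact this)
  refine ⟨V, hpV, T₀, r, inferInstance, inferInstance, ?_, ?_⟩
  · show Smooth ((T₀.ι ≫ t ≫ U.ι) ≫ φ)
    haveI : Smooth (T₀.ι ≫ q) := inferInstance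
    simpa only [q, Category.assoc] using ‹Smooth (T₀.ι ≫ q)›
  have hξV : ξ ∈ V := by
    rw [hξ] at hxZ
    exact (specializes_iff_mem_closure.2 hxZ).mem_open V.2 hpV
  obtain ⟨s, hs⟩ := hξT
  have hsT₀ : s ∈ T₀ := hOT.le (show t s ∈ O by rw [hs]; exact (hmemV ⟨ξ, hξU⟩).1 hξV)
  ext z
  constructor
  · rintro ⟨w, rfl⟩
    refine ⟨?_, (hmemV (t (T₀.ι w))).2 (hOT.ge w.2 : T₀.ι w ∈ t ⁻¹' O)⟩
    have hg : genericPoint (T₀ : Scheme.{u}) ⤳ w := genericPoint_specializes (α := (T₀ : Scheme.{u})) w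
    have h1 : r (genericPoint (T₀ : Scheme.{u})) ⤳ r w := hg.map r.continuous
    have h2 : r (genericPoint (T₀ : Scheme.{u})) ⤳ ξ := by
      have := (genericPoint_specializes (α := (T₀ : Scheme.{u})) (⟨s, hsT₀⟩ : T₀)).map r.continuous
      have e : r (⟨s, hsT₀⟩ : T₀) = ξ := by
        show U.ι (t (T₀.ι ⟨s, hsT₀⟩)) = ξ
        rw [show T₀.ι ⟨s, hsT₀⟩ = s from rfl, hs]
        rfl
      rwa [e] at this
    rw [hξ]
    exact specializes_iff_mem_closure.1 ((hξm _ h2).trans h1)
  · rintro ⟨hzZ, ⟨z', hz', rfl⟩⟩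
    have h1 : (⟨ξ, hξU⟩ : U) ⤳ z' := by
      refine U.ι.isEmbedding.isInducing.specializes_iff.1 ?_
      rw [hξ] at hzZ
      exact specializes_iff_mem_closure.2 hzZ
    obtain ⟨w, hw⟩ := h1.mem_closed t.isClosedEmbedding.isClosed_range ⟨s, hs⟩
    have hwT₀ : w ∈ T₀ := hOT.le (show t w ∈ O by rw [hw]; exact hz')
    exact ⟨⟨w, hwT₀⟩, by
      show U.ι (t (T₀.ι ⟨w, hwT₀⟩)) = U.ι z'
      rw [show T₀.ι ⟨w, hwT₀⟩ = w from rfl, hw]⟩

/-- The coordinate axis `crd i = 0` of the split node model. -/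
theorem exists_axis (A : Type u) [CommRing A] (i : Fin 2) :
    ∃ ρ : NodeAlg A 0 →+* Polynomial A, Function.Surjective ρ ∧
      RingHom.ker ρ = Ideal.span {NodeModel.crd (0 : A) i} ∧
      ρ.comp (algebraMap A (NodeAlg A 0)) = Polynomial.C := by
  classical
  let w : Fin 2 → Polynomial A := fun j => if j = i then 0 else Polynomial.X
  have hw : w 0 * w 1 = Polynomial.C (0 : A) := by
    fin_cases i <;> simp [w]
  let ρ := NodeModel.toHom (0 : A) Polynomial.C w hw
  obtain ⟨j, hji⟩ : ∃ j : Fin 2, j ≠ i := exists_ne i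
  let σ : Polynomial A →+* NodeAlg A 0 := Polynomial.eval₂RingHom (algebraMap A _) (NodeModel.crd (0 : A) j)
  have hwi : w i = 0 := if_pos rfl
  have hwj : w j = Polynomial.X := if_neg hji
  have h1 : ∀ f, ρ (σ f) = f := fun f => by
    have : ρ.comp σ = RingHom.id _ := Polynomial.ringHom_ext
      (fun c => by simp [σ, ρ, NodeModel.toHom_algebraMap]) (by simp [σ, ρ, NodeModel.toHom_crd, hwj])
    exact RingHom.congr_fun this f
  let I := Ideal.span {NodeModel.crd (0 : A) i}
  have h2 : ((Ideal.Quotient.mk I).comp σ).comp ρ = Ideal.Quotient.mk I := by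
    refine NodeModel.hom_ext (B := NodeAlg A 0 ⧸ I) (0 : A) (fun c => ?_) fun l => ?_
    · simp [σ, ρ, NodeModel.toHom_algebraMap]
    · rcases eq_or_ne l i with rfl | hl
      · simp only [RingHom.comp_apply, ρ, NodeModel.toHom_crd, hwi, map_zero]
        exact (Ideal.Quotient.eq_zero_iff_mem.2 (Ideal.mem_span_singleton_self _)).symm
      · have : l = j := by fin_cases l <;> fin_cases i <;> fin_cases j <;> simp_all
        subst this
        simp [σ, ρ, NodeModel.toHom_crd, hwj]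
  refine ⟨ρ, fun f => ⟨σ f, h1 f⟩, le_antisymm (fun z hz => ?_) ?_, ?_⟩
  · rw [← Ideal.Quotient.eq_zero_iff_mem]
    have := RingHom.congr_fun h2 z
    exact this.symm.trans ((congrArg ((Ideal.Quotient.mk I).comp σ) (RingHom.mem_ker.1 hz)).trans (map_zero _))
  · rw [Ideal.span_singleton_le_iff_mem, RingHom.mem_ker]
    simp [ρ, NodeModel.toHom_crd, hwi]
  · exact RingHom.ext fun c => NodeModel.toHom_algebraMap (0 : A) Polynomial.C w hw c

theorem smooth_lineToBase (A : Type u) [CommRing A] : Smooth (lineToBase A) := by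
  haveI : Algebra.Smooth A (Polynomial A) := { finitePresentation := inferInstance, formallySmooth := inferInstance }
  exact NodeModel.smooth_spec (A := A) (B := Polynomial A)

/-- Near each point of a component there is a smooth reduced subscheme supported on the component. -/
theorem exists_smooth_local {D : Scheme.{u}} (i : D ⟶ C) (x : C)
    (hch : HasLineChartAt φ i x ∨ HasNodeChartAt φ i x) {Z : Set C}
    (hZ : Z ∈ irreducibleComponents (C : Type u)) (hxZ : x ∈ Z) :
    ∃ (V : C.Opens) (_ : x ∈ V) (T₀ : Scheme.{u}) (r : T₀ ⟶ C),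
      IsImmersion r ∧ IsReduced T₀ ∧ Smooth (r ≫ φ) ∧ Set.range r = Z ∩ V := by
  obtain ⟨ξ, hξ, hξm⟩ := H23.FinCondSch.eq_closure_of_mem_irreducibleComponents hZ
  have hξx : ξ ⤳ x := specializes_iff_mem_closure.2 (hξ ▸ hxZ)
  -- the smooth case
  have key : ∀ (U : C.Opens), x ∈ U → Smooth (U.ι ≫ φ) →
      ∃ (V : C.Opens) (_ : x ∈ V) (T₀ : Scheme.{u}) (r : T₀ ⟶ C),
        IsImmersion r ∧ IsReduced T₀ ∧ Smooth (r ≫ φ) ∧ Set.range r = Z ∩ V := by
    intro U hxU hU
    haveI : Smooth (𝟙 (U : Scheme.{u}) ≫ U.ι ≫ φ) := by rw [Category.id_comp]; exact hU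
    exact exists_local φ (𝟙 (U : Scheme.{u})) hZ hξ hξm (hξx.mem_open U.2 hxU) ⟨_, rfl⟩ ⟨x, hxU⟩
      ⟨_, rfl⟩ hxZ
  rcases hch with ⟨A, j, hj, U, hxU, q, hq, f, fD, hf, hfq, -, -⟩ | ⟨A, j, hj, U, hxU, q, hq, a, f, hf, hfq, -⟩
  · haveI := hf
    haveI := smooth_lineToBase A
    exact key U hxU (by rw [hq, ← hfq]; infer_instance)
  haveI := hf
  let P : PrimeSpectrum (NodeAlg A a) := f ⟨x, hxU⟩
  by_cases hP : ∃ l, NodeModel.crd a l ∉ P.asIdeal
  · obtain ⟨l, hl⟩ := hP
    haveI := NodeModel.smooth_away a l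
    let e : Spec (CommRingCat.of (Localization.Away (NodeModel.crd a l))) ⟶ Spec (CommRingCat.of (NodeAlg A a)) :=
      Spec.map (CommRingCat.ofHom (algebraMap (NodeAlg A a) (Localization.Away (NodeModel.crd a l))))
    haveI : IsOpenImmersion e := IsOpenImmersion.of_isLocalization (NodeModel.crd a l)
    haveI he : Smooth (e ≫ nodeToBase A a) := by
      have : e ≫ nodeToBase A a = Spec.map (CommRingCat.ofHom (algebraMap A (Localization.Away (NodeModel.crd a l)))) := by
        show Spec.map _ ≫ Spec.map _ = _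
        rw [← Spec.map_comp, ← CommRingCat.ofHom_comp, ← IsScalarTower.algebraMap_eq]
      rw [this]
      exact NodeModel.smooth_spec (A := A) (B := Localization.Away (NodeModel.crd a l))
    let U' : (U : Scheme.{u}).Opens := f ⁻¹ᵁ e.opensRange
    have hxU' : (⟨x, hxU⟩ : U) ∈ U' := by
      show P ∈ Set.range (PrimeSpectrum.comap (algebraMap (NodeAlg A a) (Localization.Away (NodeModel.crd a l))))
      rw [PrimeSpectrum.localization_away_comap_range _ (NodeModel.crd a l)]
      exact hl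
    refine key (U.ι ''ᵁ U') ⟨⟨x, hxU⟩, hxU', rfl⟩ ?_
    have hs : Smooth (U'.ι ≫ U.ι ≫ φ) := by
      have hr : Set.range (U'.ι ≫ f) ⊆ Set.range e := by
        rintro _ ⟨w, rfl⟩
        exact w.2
      rw [hq, ← hfq]
      haveI : Etale (IsOpenImmersion.lift e (U'.ι ≫ f) hr ≫ e) := by
        rw [IsOpenImmersion.lift_fac]; infer_instance
      haveI : Etale (IsOpenImmersion.lift e (U'.ι ≫ f) hr) := Etale.of_comp _ e
      rw [show U'.ι ≫ (f ≫ nodeToBase A a) ≫ j =
          IsOpenImmersion.lift e (U'.ι ≫ f) hr ≫ (e ≫ nodeToBase A a) ≫ j by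
        simp only [Category.assoc, IsOpenImmersion.lift_fac_assoc]]
      infer_instance
    haveI := hs
    rw [show (U.ι ''ᵁ U').ι ≫ φ = (U.ι.isoImage U').inv ≫ U'.ι ≫ U.ι ≫ φ by
      rw [Scheme.Hom.isoImage_inv_ι_assoc]]
    infer_instance
  · push Not at hP
    have hA : IsField A := by
      haveI : Nonempty (Spec A) := ⟨q ⟨x, hxU⟩⟩
      haveI : Subsingleton (Spec A) := j.isOpenEmbedding.injective.subsingleton
      haveI : IsReduced (Spec A) := isReduced_of_isOpenImmersion j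
      haveI : IrreducibleSpace (Spec A) := { toNonempty := inferInstance }
      haveI : IsIntegral (Spec A) := (isIntegral_iff_irreducibleSpace_and_isReduced _).2 ⟨inferInstance, inferInstance⟩
      exact MulEquiv.isField (isField_of_isIntegral_of_subsingleton (Spec A))
        (Scheme.ΓSpecIso A).commRingCatIsoToRingEquiv.symm.toMulEquiv
    have ha : a = 0 := by
      by_contra ha
      obtain ⟨b, hb⟩ := hA.mul_inv_cancel ha
      refine P.isPrime.ne_top ((Ideal.eq_top_iff_one _).2 ?_)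
      rw [← map_one (algebraMap A (NodeAlg A a)), ← hb, map_mul, ← NodeModel.crd_mul a]
      exact P.asIdeal.mul_mem_right _ (P.asIdeal.mul_mem_left _ (hP 1))
    subst ha
    have hξU : ξ ∈ U := hξx.mem_open U.2 hxU
    let Pξ : PrimeSpectrum (NodeAlg A 0) := f ⟨ξ, hξU⟩
    obtain ⟨l, hl⟩ : ∃ l, NodeModel.crd (0 : A) l ∈ Pξ.asIdeal := by
      rcases Pξ.isPrime.mem_or_mem (show NodeModel.crd (0 : A) 0 * NodeModel.crd (0 : A) 1 ∈ Pξ.asIdeal by
        rw [NodeModel.crd_mul]
        exact (map_zero (algebraMap A (NodeAlg A 0))).symm ▸ Pξ.asIdeal.zero_mem) with h | h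
      · exact ⟨_, h⟩
      · exact ⟨_, h⟩
    obtain ⟨ρ, hρ, hker, hρC⟩ := exists_axis A l
    let c : Spec (CommRingCat.of (Polynomial A)) ⟶ Spec (CommRingCat.of (NodeAlg A 0)) :=
      Spec.map (CommRingCat.ofHom ρ)
    haveI : IsClosedImmersion c := IsClosedImmersion.spec_of_surjective _ hρ
    have hc : c ≫ nodeToBase A 0 = lineToBase A := by
      show Spec.map _ ≫ Spec.map _ = Spec.map _
      rw [← Spec.map_comp, ← CommRingCat.ofHom_comp, hρC]
    have hrc : Set.range c = {Q : PrimeSpectrum (NodeAlg A 0) | NodeModel.crd (0 : A) l ∈ Q.asIdeal} := by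
      show Set.range (PrimeSpectrum.comap ρ) = _
      rw [range_comap_of_surjective _ _ hρ, hker, PrimeSpectrum.zeroLocus_span]
      ext Q
      simp [PrimeSpectrum.mem_zeroLocus]
    let t := pullback.fst f c
    haveI : IsClosedImmersion t := MorphismProperty.pullback_fst _ _ inferInstance
    haveI : Smooth (t ≫ U.ι ≫ φ) := by
      haveI := smooth_lineToBase A
      rw [hq, ← hfq, Category.assoc, pullback.condition_assoc, ← Category.assoc c, hc]
      infer_instance
    have hrt : Set.range t = f ⁻¹' Set.range c := Scheme.Pullback.range_fst _ _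
    exact exists_local φ t hZ hξ hξm hξU (by rw [hrt, hrc]; exact hl) ⟨x, hxU⟩
      (by rw [hrt, hrc]; exact hP l) hxZ

/-- Components of a curve all of whose points have charts are smooth. -/
theorem exists_smooth_component {D : Scheme.{u}} (i : D ⟶ C)
    (hch : ∀ x, HasLineChartAt φ i x ∨ HasNodeChartAt φ i x) {Z : Set C}
    (hZ : Z ∈ irreducibleComponents (C : Type u)) :
    ∃ (W : Scheme.{u}) (e : W ⟶ C), IsClosedImmersion e ∧ IsReduced W ∧
      Set.range e.base = Z ∧ Smooth (e ≫ φ) := by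
  let S : Closeds C := ⟨Z, isClosed_of_mem_irreducibleComponents _ hZ⟩
  let e := (Scheme.IdealSheafData.vanishingIdeal S).subschemeι
  haveI := H23.RedSub.isReduced_vanishingIdeal S
  have hr : Set.range e = Z := H23.RedSub.range_vanishingIdeal S
  refine ⟨_, e, inferInstance, inferInstance, hr, ?_⟩
  choose V hV T₀ r h₁ h₂ h₃ h₄ using fun w => exists_smooth_local φ i (e w) (hch _) hZ (hr ▸ ⟨w, rfl⟩)
  refine IsZariskiLocalAtSource.of_iSup_eq_top (fun w => e ⁻¹ᵁ V w)
    (eq_top_iff.2 fun w _ => TopologicalSpace.Opens.mem_iSup.2 ⟨w, hV w⟩) fun w => ?_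
  haveI := h₁ w
  haveI := h₂ w
  haveI := h₃ w
  haveI : IsImmersion ((e ⁻¹ᵁ V w).ι ≫ e) := inferInstance
  obtain ⟨E, hE⟩ := H23.RedSub.exists_iso_of_range_eq ((e ⁻¹ᵁ V w).ι ≫ e) (r w) (by
    rw [h₄ w, Scheme.Hom.comp_base, TopCat.coe_comp, Set.range_comp, Scheme.Opens.range_ι]
    show e '' (e ⁻¹' (V w : Set C)) = _
    rw [Set.image_preimage_eq_inter_range, hr, Set.inter_comm])
  rw [← reassoc_of% hE]
  infer_instance

end Groth.Agent.StrictComp
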